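import Mathlib.CategoryTheory.Triangulated.TStructure.AbelianSubcategory
import Mathlib.CategoryTheory.Triangulated.TStructure.Heart
import Mathlib.CategoryTheory.Triangulated.TStructure.TruncLEGT
import Mathlib.CategoryTheory.Triangulated.HomologicalFunctor
import Mathlib.CategoryTheory.Abelian.Refinements

/-! The heart of a t-structure: abelian, short exact sequences, homological `H⁰`. -/

set_option autoImplicit false
universe v u v' u'

namespace Groth.Agent.Heart43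

open CategoryTheory CategoryTheory.Limits CategoryTheory.Pretriangulated CategoryTheory.Triangulated ZeroObject

variable {C : Type u} [Category.{v} C] [Preadditive C] [HasZeroObject C] [HasShift C ℤ]
  [∀ n : ℤ, (shiftFunctor C n).Additive] [Pretriangulated C] (t : TStructure C)
  {H : Type u'} [Category.{v'} H] [Preadditive H] [t.Heart H]

theorem exists_iso_heart (X : C) (h₁ : t.IsLE X 0) (h₂ : t.IsGE X 0) :
    ∃ Z : H, Nonempty (t.ιHeart.obj Z ≅ X) := by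
  have hX : t.heart X := (t.mem_heart_iff X).2 ⟨h₁, h₂⟩
  rw [← t.essImage_ιHeart H] at hX
  exact hX

theorem hom_neg_eq_zero ⦃X Y : H⦄ ⦃n : ℤ⦄ (f : t.ιHeart.obj X ⟶ (t.ιHeart.obj Y)⟦n⟧)
    (hn : n < 0) : f = 0 := by
  have := t.isGE_shift (t.ιHeart.obj Y) 0 n (-n) (by lia)
  exact t.zero f 0 (-n) (by lia)

include t in
theorem hasFiniteProducts : HasFiniteProducts H := by
  let ι := t.ιHeart (H := H)
  obtain ⟨Z, ⟨eZ⟩⟩ := exists_iso_heart t (H := H) (0 : C) inferInstance inferInstance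
  have hZ : IsZero Z := by
    rw [IsZero.iff_id_eq_zero]
    exact ι.map_injective ((IsZero.of_iso (isZero_zero C) eZ).eq_of_src _ _)
  have : HasZeroObject H := ⟨⟨Z, hZ⟩⟩
  have : HasBinaryBiproducts H := by
    refine ⟨fun X Y => ?_⟩
    obtain ⟨P, ⟨e⟩⟩ := exists_iso_heart t (H := H) (ι.obj X ⊞ ι.obj Y)
      (t.isLE₂ _ (binaryBiproductTriangle_distinguished (ι.obj X) (ι.obj Y)) 0
        (inferInstanceAs (t.IsLE (ι.obj X) 0)) (inferInstanceAs (t.IsLE (ι.obj Y) 0)))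
      (t.isGE₂ _ (binaryBiproductTriangle_distinguished (ι.obj X) (ι.obj Y)) 0
        (inferInstanceAs (t.IsGE (ι.obj X) 0)) (inferInstanceAs (t.IsGE (ι.obj Y) 0)))
    let e' : ι.obj P ≅ ι.obj X ⊞ ι.obj Y := e
    refine hasBinaryBiproduct_of_total
      { pt := P
        fst := ι.preimage (e'.hom ≫ biprod.fst)
        snd := ι.preimage (e'.hom ≫ biprod.snd)
        inl := ι.preimage (biprod.inl ≫ e'.inv)
        inr := ι.preimage (biprod.inr ≫ e'.inv)
        inl_fst := ι.map_injective (by simp)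
        inl_snd := ι.map_injective (by simp)
        inr_fst := ι.map_injective (by simp)
        inr_snd := ι.map_injective (by simp) } (ι.map_injective ?_)
    simp only [Functor.map_add, Functor.map_comp, Functor.map_preimage, Category.assoc]
    have key : biprod.fst ≫ biprod.inl + biprod.snd ≫ biprod.inr = 𝟙 (ι.obj X ⊞ ι.obj Y) :=
      biprod.total
    rw [← Category.assoc biprod.fst, ← Category.assoc biprod.snd, ← Preadditive.comp_add,
      ← Preadditive.add_comp, key, Category.id_comp, e'.hom_inv_id]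
    exact (ι.map_id P).symm
  have : HasTerminal H := hZ.isTerminal.hasTerminal
  exact hasFiniteProducts_of_has_binary_and_terminal

theorem admissibleMorphism_eq_top :
    AbelianSubcategory.admissibleMorphism (t.ιHeart (H := H)) = ⊤ := by
  ext X₁ X₂ f₁
  simp only [MorphismProperty.top_apply, iff_true]
  intro X₃ f₂ f₃ hT
  have hR := rot_of_distTriang _ hT
  have hle₁ : t.IsLE ((t.ιHeart.obj X₁)⟦(1 : ℤ)⟧) (-1) := t.isLE_shift _ 0 1 (-1) (by lia)
  have hge₁ : t.IsGE ((t.ιHeart.obj X₁)⟦(1 : ℤ)⟧) (-1) := t.isGE_shift _ 0 1 (-1) (by lia)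
  have h3le : t.IsLE X₃ 0 := t.isLE₂ _ hR 0 (inferInstanceAs (t.IsLE (t.ιHeart.obj X₂) 0))
    (t.isLE_of_le ((t.ιHeart.obj X₁)⟦(1 : ℤ)⟧) (-1) 0 (by lia))
  have h3ge : t.IsGE X₃ (-1) := t.isGE₂ _ hR (-1)
    (t.isGE_of_ge (t.ιHeart.obj X₂) (-1) 0 (by lia)) hge₁
  obtain ⟨A, B, hA, hB, i, p, d, hT'⟩ := t.exists_triangle X₃ (-1) 0 (by lia)
  have hA' : t.IsLE A (-1) := ⟨hA⟩
  have hB' : t.IsGE B 0 := ⟨hB⟩
  have hBl : t.IsLE B 0 := by
    have := t.isLE_shift A (-1) 1 (-2) (by lia)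
    exact t.isLE₂ _ (rot_of_distTriang _ hT') 0 h3le (t.isLE_of_le (A⟦(1 : ℤ)⟧) (-2) 0 (by lia))
  have hAg : t.IsGE A (-1) := by
    have := t.isGE_shift B 0 (-1) 1 (by lia)
    exact t.isGE₂ _ (inv_rot_of_distTriang _ hT') (-1)
      (t.isGE_of_ge (B⟦(-1 : ℤ)⟧) (-1) 1 (by lia)) h3ge
  obtain ⟨K, ⟨eK⟩⟩ := exists_iso_heart t (H := H) (A⟦(-1 : ℤ)⟧)
    (t.isLE_shift A (-1) (-1) 0 (by lia)) (t.isGE_shift A (-1) (-1) 0 (by lia))
  obtain ⟨Q, ⟨eQ⟩⟩ := exists_iso_heart t (H := H) B hBl hB'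
  let eA : (t.ιHeart.obj K)⟦(1 : ℤ)⟧ ≅ A :=
    (shiftFunctor C (1 : ℤ)).mapIso eK ≪≫ shiftNegShift A (1 : ℤ)
  refine ⟨K, Q, eA.hom ≫ i, p ≫ eQ.inv, eQ.hom ≫ d ≫ eA.inv⟦(1 : ℤ)⟧',
    isomorphic_distinguished _ hT' _ ?_⟩
  refine Triangle.isoMk _ _ eA (Iso.refl _) eQ ?_ ?_ ?_
  · exact Category.comp_id _
  · change (p ≫ eQ.inv) ≫ eQ.hom = 𝟙 X₃ ≫ p
    simp
  · change (eQ.hom ≫ d ≫ eA.inv⟦(1 : ℤ)⟧') ≫ eA.hom⟦(1 : ℤ)⟧' = eQ.hom ≫ d
    simp [← Functor.map_comp]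

/-- The heart is abelian. -/
@[instance_reducible]
noncomputable def abelianHeart [IsTriangulated C] : Abelian H :=
  have := hasFiniteProducts t (H := H)
  AbelianSubcategory.abelian t.ιHeart (hom_neg_eq_zero t) (admissibleMorphism_eq_top t)

end Groth.Agent.Heart43
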