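import Groth.Agent.Heart43.Basic
import Mathlib.Algebra.Homology.ShortComplex.ShortExact

/-! Short exact sequences in the heart and the homological functor `H⁰`. -/

set_option autoImplicit false
universe v u v' u'

namespace Groth.Agent.Heart43

open CategoryTheory CategoryTheory.Limits CategoryTheory.Pretriangulated CategoryTheory.Triangulated

variable {C : Type u} [Category.{v} C] [Preadditive C] [HasZeroObject C] [HasShift C ℤ]
  [∀ n : ℤ, (shiftFunctor C n).Additive] [Pretriangulated C] (t : TStructure C)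
  {H : Type u'} [Category.{v'} H] [Abelian H] [t.Heart H]

theorem shortExact_of_distinguished {X Y Z : H} (u : X ⟶ Y) (v : Y ⟶ Z)
    (w : t.ιHeart.obj Z ⟶ (t.ιHeart.obj X)⟦(1 : ℤ)⟧)
    (hT : Triangle.mk (t.ιHeart.map u) (t.ιHeart.map v) w ∈ distTriang C) :
    ∃ huv : u ≫ v = 0, (ShortComplex.mk u v huv).ShortExact := by
  have h0 : u ≫ v = 0 := t.ιHeart.map_injective (by
    rw [Functor.map_comp, Functor.map_zero]
    exact comp_distTriang_mor_zero₁₂ _ hT)
  have hk := AbelianSubcategory.isLimitKernelForkOfDistTriang (hom_neg_eq_zero t) u v w hT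
  have hc := AbelianSubcategory.isColimitCokernelCoforkOfDistTriang (hom_neg_eq_zero t) u v w hT
  have : Mono u := mono_of_isLimit_fork hk
  have : Epi v := epi_of_isColimit_cofork hc
  exact ⟨h0, { exact := ShortComplex.exact_of_f_is_kernel (ShortComplex.mk u v h0) hk
               mono_f := inferInstanceAs (Mono u)
               epi_g := inferInstanceAs (Epi v) }⟩

theorem exists_distinguished_of_shortExact {X Y Z : H} (u : X ⟶ Y) (v : Y ⟶ Z) (huv : u ≫ v = 0)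
    (hS : (ShortComplex.mk u v huv).ShortExact) :
    ∃ w : t.ιHeart.obj Z ⟶ (t.ιHeart.obj X)⟦(1 : ℤ)⟧,
      Triangle.mk (t.ιHeart.map u) (t.ιHeart.map v) w ∈ distTriang C := by
  have : Epi v := hS.epi_g
  obtain ⟨X₁, i, δ, hT⟩ := AbelianSubcategory.exists_distinguished_triangle_of_epi
    (hom_neg_eq_zero t (H := H)) (admissibleMorphism_eq_top t) v
  have hk := AbelianSubcategory.isLimitKernelForkOfDistTriang (hom_neg_eq_zero t) i v δ hT
  let φ : X ≅ X₁ := IsLimit.conePointUniqueUpToIso hS.fIsKernel hk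
  have hφ : φ.hom ≫ i = u :=
    IsLimit.conePointUniqueUpToIso_hom_comp hS.fIsKernel hk WalkingParallelPair.zero
  refine ⟨δ ≫ (t.ιHeart.map φ.inv)⟦(1 : ℤ)⟧', isomorphic_distinguished _ hT _ ?_⟩
  refine Triangle.isoMk _ _ (t.ιHeart.mapIso φ) (Iso.refl _) (Iso.refl _) ?_ ?_ ?_
  · change t.ιHeart.map u ≫ 𝟙 _ = t.ιHeart.map φ.hom ≫ t.ιHeart.map i
    rw [Category.comp_id, ← Functor.map_comp, hφ]
  · exact (Category.comp_id _).trans (Category.id_comp _).symm
  · change (δ ≫ (t.ιHeart.map φ.inv)⟦(1 : ℤ)⟧') ≫ (t.ιHeart.map φ.hom)⟦(1 : ℤ)⟧' = 𝟙 _ ≫ δ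
    simp [← Functor.map_comp]

section

variable [IsTriangulated C]

theorem isHomological (H0 : C ⥤ H) (e : H0 ⋙ t.ιHeart ≅ t.truncGE 0 ⋙ t.truncLE 0) :
    H0.IsHomological := by
  let ι := t.ιHeart (H := H)
  let π : ∀ Y : C, Y ⟶ (t.truncGE 0).obj Y := fun Y => (t.truncGEπ 0).app Y
  let J : ∀ Y : C, ι.obj (H0.obj Y) ⟶ (t.truncGE 0).obj Y := fun Y =>
    e.hom.app Y ≫ (t.truncLEι 0).app ((t.truncGE 0).obj Y)
  have Jnat : ∀ {A B : C} (f : A ⟶ B), ι.map (H0.map f) ≫ J B = J A ≫ (t.truncGE 0).map f := by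
    intro A B f
    have h₁ := e.hom.naturality f
    have h₂ := (t.truncLEι 0).naturality ((t.truncGE 0).map f)
    simp only [Functor.comp_map, Functor.id_map] at h₁ h₂
    change ι.map (H0.map f) ≫ e.hom.app B ≫ _ = (e.hom.app A ≫ _) ≫ _
    rw [← Category.assoc, h₁, Category.assoc, Category.assoc, ← h₂]
  have Jext : ∀ (Y : C) (W : H) (f g : W ⟶ H0.obj Y), ι.map f ≫ J Y = ι.map g ≫ J Y → f = g := by
    intro Y W f g h
    apply ι.map_injective
    rw [← cancel_mono (e.hom.app Y)]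
    have : t.IsLE (ι.obj W) 0 := inferInstanceAs (t.IsLE (t.ιHeart.obj W) 0)
    exact t.to_truncLE_obj_ext (by simpa [J] using h)
  have Jiso : ∀ P : C, t.IsLE P 0 → IsIso (J P) := fun P hP => by
    have : t.IsLE ((t.truncGE 0).obj P) 0 :=
      (inferInstance : t.IsLE ((t.truncGT (-1)).obj P) 0)
    infer_instance
  have πnat : ∀ {A B : C} (f : A ⟶ B), π A ≫ (t.truncGE 0).map f = f ≫ π B :=
    fun f => ((t.truncGEπ 0).naturality f).symm
  have : H0.Additive := by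
    have : (H0 ⋙ t.ιHeart).Additive := Functor.additive_of_iso e.symm
    exact ⟨fun {_ _ f g} => t.ιHeart.map_injective (by
      simpa using (H0 ⋙ t.ιHeart).map_add (f := f) (g := g))⟩
  refine { exact := fun T hT => ?_ }
  rw [ShortComplex.exact_iff_exact_up_to_refinements]
  intro W φ hφ
  change W ⟶ H0.obj T.obj₂ at φ
  change φ ≫ H0.map T.mor₂ = 0 at hφ
  let φ' : ι.obj W ⟶ (t.truncGE 0).obj T.obj₂ := ι.map φ ≫ J T.obj₂
  obtain ⟨P, i, q₁, hP⟩ := distinguished_cocone_triangle₂ (φ' ≫ (t.truncGEδLT 0).app T.obj₂)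
  obtain ⟨p, hp₁, hp₂⟩ := complete_distinguished_triangle_morphism₂ _ _ hP
    (t.triangleLTGE_distinguished 0 T.obj₂) (𝟙 _) φ' (by
      change (φ' ≫ _) ≫ (shiftFunctor C (1 : ℤ)).map (𝟙 _) = φ' ≫ _
      rw [CategoryTheory.Functor.map_id]; exact Category.comp_id _)
  change P ⟶ T.obj₂ at p
  replace hp₂ : q₁ ≫ φ' = p ≫ π T.obj₂ := hp₂
  have hTlt : t.IsLE ((t.truncLT 0).obj T.obj₂) (-1) := t.isLE_truncLT_obj _ _ _ (by lia)
  have hP0 : t.IsLE P 0 := t.isLE₂ _ hP 0 (t.isLE_of_le ((t.truncLT 0).obj T.obj₂) (-1) 0 (by lia))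
    (inferInstanceAs (t.IsLE (t.ιHeart.obj W) 0))
  have hzero : (p ≫ T.mor₂) ≫ π T.obj₃ = 0 := by
    rw [Category.assoc, ← πnat, ← Category.assoc, ← hp₂, Category.assoc, Category.assoc,
      ← Jnat, ← Category.assoc (ι.map φ), ← Functor.map_comp, hφ, Functor.map_zero, zero_comp,
      comp_zero]
  obtain ⟨s, hs⟩ := Triangle.coyoneda_exact₂ _ (t.triangleLTGE_distinguished 0 T.obj₃)
    (p ≫ T.mor₂) hzero
  change P ⟶ (t.truncLT 0).obj T.obj₃ at s
  replace hs : p ≫ T.mor₂ = s ≫ (t.truncLTι 0).app T.obj₃ := hs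
  obtain ⟨P', q, h', hP'⟩ := distinguished_cocone_triangle₁ s
  have hZlt : t.IsLE ((t.truncLT 0).obj T.obj₃) (-1) := t.isLE_truncLT_obj _ _ _ (by lia)
  have hP'0 : t.IsLE P' 0 := by
    have := t.isLE_shift ((t.truncLT 0).obj T.obj₃) (-1) (-1) 0 (by lia)
    exact t.isLE₂ _ (inv_rot_of_distTriang _ hP') 0 this hP0
  have hqs : q ≫ s = 0 := comp_distTriang_mor_zero₁₂ _ hP'
  obtain ⟨x, hx⟩ := Triangle.coyoneda_exact₂ _ hT (q ≫ p) (by
    rw [Category.assoc, hs, reassoc_of% hqs, zero_comp])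
  have hW : t.IsGE (ι.obj W) 0 := inferInstanceAs (t.IsGE (t.ιHeart.obj W) 0)
  let r : H0.obj P' ⟶ W := ι.preimage (J P' ≫ t.descTruncGE (q ≫ q₁) 0)
  refine ⟨H0.obj P', r, ?_, H0.map x, ?_⟩
  · refine Preadditive.epi_of_cancel_zero r (fun {V} g hg => ?_)
    have := Jiso P' hP'0
    have hV : t.IsGE (ι.obj V) 0 := inferInstanceAs (t.IsGE (t.ιHeart.obj V) 0)
    have h1 : q ≫ q₁ ≫ ι.map g = 0 := by
      have h := congrArg ι.map hg
      rw [Functor.map_comp, Functor.map_zero, Functor.map_preimage, Category.assoc] at h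
      have h' : t.descTruncGE (q ≫ q₁) 0 ≫ ι.map g = 0 :=
        (cancel_epi (J P')).1 (h.trans comp_zero.symm)
      rw [← Category.assoc, ← t.π_descTruncGE (q ≫ q₁) 0, Category.assoc, h', comp_zero]
    obtain ⟨a, ha⟩ := Triangle.yoneda_exact₂ _ hP' (q₁ ≫ ι.map g) h1
    change (t.truncLT 0).obj T.obj₃ ⟶ ι.obj V at a
    replace ha : q₁ ≫ ι.map g = s ≫ a := ha
    rw [t.zero a (-1) 0 (by lia), comp_zero] at ha
    obtain ⟨b, hb⟩ := Triangle.yoneda_exact₃ _ hP (ι.map g) ha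
    change ((t.truncLT 0).obj T.obj₂)⟦(1 : ℤ)⟧ ⟶ ι.obj V at b
    replace hb : ι.map g = (φ' ≫ (t.truncGEδLT 0).app T.obj₂) ≫ b := hb
    have : t.IsLE (((t.truncLT 0).obj T.obj₂)⟦(1 : ℤ)⟧) (-2) :=
      t.isLE_shift _ (-1) 1 (-2) (by lia)
    rw [t.zero b (-2) 0 (by lia), comp_zero] at hb
    exact ι.map_injective (hb.trans (ι.map_zero _ _).symm)
  · change r ≫ φ = H0.map x ≫ H0.map T.mor₁
    refine Jext _ _ _ _ ?_
    rw [← Functor.map_comp H0, Functor.map_comp ι, Category.assoc, Functor.map_preimage, Jnat,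
      Category.assoc, ← hx]
    congr 1
    refine t.from_truncGE_obj_ext ?_
    change π P' ≫ t.descTruncGE (q ≫ q₁) 0 ≫ φ' = π P' ≫ (t.truncGE 0).map (q ≫ p)
    rw [← Category.assoc, show π P' ≫ t.descTruncGE (q ≫ q₁) 0 = q ≫ q₁ from t.π_descTruncGE _ _,
      πnat, Category.assoc, hp₂, Category.assoc]

end

end Groth.Agent.Heart43
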